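import Cfsg.Agent.Nodes.RGDTypeA
import Cfsg.Agent.H148.GG.GGOne
import Cfsg.Agent.H40.OC.Norm

/-!
# S4884, own characteristic: the frame of `PGL_{n+1}(F)` (helper379)

* `enlarge` : a root group datum with a larger torus; `hom_triv` : linear characters of `U` and coordinates;
* `PG n F = GL_{n+1}(F) / Z`, `qs : SL_{n+1}(F) →* PG n F`, `dT` the image of the diagonal matrices;
* `rgdP` : the root group datum of `PG n F` with torus `dT`; `GG_eq_top`; `adjP` : the coordinates; `antiP` : transposition;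
* `pslEquiv`, `normal_range`, `index_range` : `PSL_{n+1}(F)` is a normal subgroup of index prime to the characteristic;
* `nP_eq`, `braidP` : the pinning and the exact braid relations.
-/

set_option autoImplicit false
set_option linter.unusedSectionVars false

namespace Cfsg.Agent.H379.GG

open Matrix CoxeterSystem Cfsg.Agent.ChevalleyStructure.CoxeterGeom Cfsg.Agent.Tits.Roots Cfsg.Agent.Tits.Core
open Cfsg.Agent.Nodes.Reps Cfsg.Agent.Nodes.BNOf Cfsg.Agent.Nodes.RGDLib Cfsg.Agent.Nodes.Bruhat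
open Cfsg.Agent.H148.GG (Adj Anti anti_of_root)
open Cfsg.Agent.H40.OC (UU cor cor_X cor_ne cor_V)
open Cfsg.Agent.Nodes
open Cfsg.Agent.Nodes.RGDTypeA (tv_val tv_inj)
open Cfsg.Agent.LieRecognition.BNCox (cA)
open Cfsg.Agent.LieClassical.SLGen
open Cfsg.Agent.TitsThree.KSideA (tv tv_of_ne tv_add tv_zero tv_neg tv_comm tv_commute)
open scoped commutatorElement

section Abs

variable {I W Y : Type*} [Fintype I] [DecidableEq I] [Group W] [Group Y] {M : CoxeterMatrix I}
  {cs : CoxeterSystem M W} {A : I → I → ℤ} {h : IsCartan M A} {p : ℕ} {T T' : Subgroup Y} {n : I → Y}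
  {X : (I → ℤ) → Subgroup Y}

/-- a root group datum with a larger torus -/
theorem enlarge (R : RGD cs h p T n X) (hle : T ≤ T') (hn : ∀ i, n i ∈ Subgroup.normalizer (T' : Set Y))
    (hX : ∀ x, IsRoot cs h x → ∀ t ∈ T', cj t (X x) = X x) (hp : (Nat.card T').Coprime p) :
    RGD cs h p T' n X where
  nsys := ⟨hn, fun i j => hle (R.nsys.rel i j)⟩
  conj := R.conj
  tor := hX
  comm := R.comm
  rk1 i u hu hu1 := by
    obtain ⟨a, ha, t, ht, b, hb, e⟩ := R.rk1 i u hu hu1
    exact ⟨a, ha, t, hle ht, b, hb, e⟩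
  pgrp := R.pgrp
  notp := R.notp
  tcop := hp

/-- a linear character of `U` which is trivial on the nonsimple root groups is determined by the coordinates -/
theorem hom_triv [Finite W] (R : RGD cs h p T n X) {F : I → Type*} [∀ i, Field (F i)] (D : Adj T X F)
    (f : ↥(UU cs h X) →* ℂˣ)
    (hc : ∀ x ∈ RGD.Pos cs h, (∀ i, x ≠ sr i) → ∀ (u : Y) (_ : u ∈ X x) (hu : u ∈ UU cs h X), f ⟨u, hu⟩ = 1)
    (u : ↥(UU cs h X)) (hu : ∀ i, Cfsg.Agent.H40.OC.co R D i u = 1) : f u = 1 := by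
  classical
  have hXU : ∀ x ∈ RGD.Pos cs h, X x ≤ UU cs h X := fun x hx => RGD.le_Sup hx
  let f' : ↥(UU cs h X) →* ℂˣ :=
    { toFun := fun v => ∏ i, f ⟨cor R i v, hXU _ ⟨isRoot_sr cs h i, sr_nonneg i⟩ (cor R i v).2⟩
      map_one' := by
        refine Finset.prod_eq_one fun i _ => ?_
        have e : (⟨((cor R i 1 : ↥(X (sr i))) : Y), hXU _ ⟨isRoot_sr cs h i, sr_nonneg i⟩ (cor R i 1).2⟩ :
            ↥(UU cs h X)) = 1 := Subtype.ext (by rw [map_one]; rfl)
        rw [e, map_one]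
      map_mul' := fun v w => by
        rw [← Finset.prod_mul_distrib]
        refine Finset.prod_congr rfl fun i _ => ?_
        rw [← map_mul]
        congr 1
        exact Subtype.ext (by rw [map_mul]; rfl) }
  have key : ∀ (v : Y) (hv : v ∈ UU cs h X), f ⟨v, hv⟩ = f' ⟨v, hv⟩ := by
    let K : Subgroup Y :=
      { carrier := {u | ∀ hu : u ∈ UU cs h X, f ⟨u, hu⟩ = f' ⟨u, hu⟩} ∩ (UU cs h X : Set Y)
        mul_mem' := by
          rintro a b ⟨ha, ha'⟩ ⟨hb, hb'⟩
          refine ⟨fun hu => ?_, mul_mem ha' hb'⟩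
          have e : (⟨a * b, hu⟩ : ↥(UU cs h X)) = ⟨a, ha'⟩ * ⟨b, hb'⟩ := rfl
          rw [e, map_mul, map_mul, ha ha', hb hb']
        one_mem' := ⟨fun hu => by
          have e : (⟨1, hu⟩ : ↥(UU cs h X)) = 1 := rfl
          rw [e, map_one, map_one], one_mem _⟩
        inv_mem' := by
          rintro a ⟨ha, ha'⟩
          refine ⟨fun hu => ?_, inv_mem ha'⟩
          have e : (⟨a⁻¹, hu⟩ : ↥(UU cs h X)) = (⟨a, ha'⟩)⁻¹ := rfl
          rw [e, map_inv, map_inv, ha ha'] }
    have hK : UU cs h X ≤ K := by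
      refine RGD.Sup_le fun x hx v hv => ⟨fun hv' => ?_, hXU x hx hv⟩
      change f ⟨v, hv'⟩ = ∏ i, f ⟨cor R i ⟨v, hv'⟩, _⟩
      by_cases hxs : ∃ i, x = sr i
      · obtain ⟨i, rfl⟩ := hxs
        rw [Finset.prod_eq_single i]
        · congr 1
          apply Subtype.ext
          have := congrArg Subtype.val (cor_X R i hv hv')
          exact this.symm
        · intro j _ hji
          have e : (⟨((cor R j ⟨v, hv'⟩ : ↥(X (sr j))) : Y), hXU _ ⟨isRoot_sr cs h j, sr_nonneg j⟩
              (cor R j ⟨v, hv'⟩).2⟩ : ↥(UU cs h X)) = 1 := Subtype.ext (by rw [cor_ne R hji hv hv']; rfl)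
          rw [e, map_one]
        · intro h1; exact absurd (Finset.mem_univ _) h1
      · push Not at hxs
        rw [hc x hx hxs v hv hv']
        refine (Finset.prod_eq_one fun j _ => ?_).symm
        have e : (⟨((cor R j ⟨v, hv'⟩ : ↥(X (sr j))) : Y), hXU _ ⟨isRoot_sr cs h j, sr_nonneg j⟩
            (cor R j ⟨v, hv'⟩).2⟩ : ↥(UU cs h X)) = 1 := Subtype.ext (by
          rw [cor_V R j (RGD.le_Sup (S := RGD.PosNe cs h j) ⟨hx.1, hx.2, hxs j⟩ hv) hv']; rfl)
        rw [e, map_one]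
    exact fun v hv => (hK hv).1 hv
  have h1 := key u u.2
  have h2 : f u = f' u := h1
  rw [h2]
  change ∏ i, f ⟨cor R i u, _⟩ = 1
  refine Finset.prod_eq_one fun i _ => ?_
  exact D.lin i (f.comp (Subgroup.inclusion (hXU _ ⟨isRoot_sr cs h i, sr_nonneg i⟩))) (cor R i u) (hu i)

end Abs

/-! ### the group `PGL` -/

section PGL

variable (n : ℕ) (F : Type*) [Field F]

/-- the group `PGL_{n+1}(F)` -/
abbrev PG : Type _ := GL (Fin (n + 1)) F ⧸ Subgroup.center (GL (Fin (n + 1)) F)

/-- the projection -/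
def pg : GL (Fin (n + 1)) F →* PG n F := QuotientGroup.mk' _

/-- the homomorphism of `SL` to `PGL` -/
def qs : SpecialLinearGroup (Fin (n + 1)) F →* PG n F := (pg n F).comp SpecialLinearGroup.toGL

variable {n F}

theorem pg_surjective : Function.Surjective (pg n F) := QuotientGroup.mk'_surjective _

theorem pg_eq_one {g : GL (Fin (n + 1)) F} : pg n F g = 1 ↔ g ∈ Subgroup.center (GL (Fin (n + 1)) F) :=
  QuotientGroup.eq_one_iff g

theorem ker_qs_le : (qs n F).ker ≤ Subgroup.center (SpecialLinearGroup (Fin (n + 1)) F) := by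
  intro g hg
  have h1 : SpecialLinearGroup.toGL g ∈ Subgroup.center (GL (Fin (n + 1)) F) := pg_eq_one.1 hg
  rw [Subgroup.mem_center_iff]
  intro k
  apply SpecialLinearGroup.toGL_injective
  rw [map_mul, map_mul]
  exact Subgroup.mem_center_iff.1 h1 _

theorem scalar_mem_center {g : GL (Fin (n + 1)) F} (r : F) (hg : g.1 = scalar (Fin (n + 1)) r) :
    g ∈ Subgroup.center (GL (Fin (n + 1)) F) := by
  rw [Subgroup.mem_center_iff]
  intro k
  apply Units.ext
  change k.1 * g.1 = g.1 * k.1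
  rw [hg]
  exact ((Matrix.scalar_commute r (fun _ => Commute.all _ _) k.1).symm).eq

theorem ker_qs : (qs n F).ker = Subgroup.center (SpecialLinearGroup (Fin (n + 1)) F) := by
  refine le_antisymm ker_qs_le fun g hg => ?_
  obtain ⟨r, -, hr⟩ := Matrix.SpecialLinearGroup.mem_center_iff.1 hg
  exact pg_eq_one.2 (scalar_mem_center r hr.symm)

/-- `PSL` as a subgroup of `PGL` -/
noncomputable def pslEquiv : ProjectiveSpecialLinearGroup (Fin (n + 1)) F ≃* ↥(qs n F).range :=
  (QuotientGroup.quotientMulEquivOfEq ker_qs.symm).trans (QuotientGroup.quotientKerEquivRange (qs n F))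

theorem pslEquiv_apply (g : SpecialLinearGroup (Fin (n + 1)) F) :
    ((pslEquiv (QuotientGroup.mk g : ProjectiveSpecialLinearGroup (Fin (n + 1)) F) : ↥(qs n F).range) : PG n F) =
      qs n F g := rfl

theorem det_toGL (g : SpecialLinearGroup (Fin (n + 1)) F) : GeneralLinearGroup.det (SpecialLinearGroup.toGL g) = 1 :=
  Units.ext g.2

theorem range_toGL : (SpecialLinearGroup.toGL : SpecialLinearGroup (Fin (n + 1)) F →* GL (Fin (n + 1)) F).range =
    (GeneralLinearGroup.det : GL (Fin (n + 1)) F →* Fˣ).ker := by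
  ext g
  constructor
  · rintro ⟨k, rfl⟩
    exact det_toGL k
  · intro hg
    have h1 : g.1.det = 1 := congrArg Units.val (MonoidHom.mem_ker.1 hg)
    exact ⟨⟨g.1, h1⟩, Units.ext rfl⟩

theorem range_qs : (qs n F).range = ((GeneralLinearGroup.det : GL (Fin (n + 1)) F →* Fˣ).ker).map (pg n F) := by
  rw [← range_toGL, qs, MonoidHom.range_comp]

theorem normal_range : ((qs n F).range).Normal := by
  rw [range_qs]
  exact Subgroup.Normal.map inferInstance _ pg_surjective

theorem card_units_coprime [Finite F] {p : ℕ} [hp : Fact p.Prime] [CharP F p] : (Nat.card Fˣ).Coprime p := by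
  classical
  have : Fintype F := Fintype.ofFinite F
  rw [Nat.card_eq_fintype_card, Fintype.card_units, Nat.coprime_comm, Nat.Prime.coprime_iff_not_dvd hp.out]
  obtain ⟨k, -, hk⟩ := FiniteField.card F p
  rw [hk]
  intro h2
  have h3 : p ∣ p ^ (k : ℕ) := dvd_pow_self p k.2.ne'
  have h4 : p ∣ 1 := by
    have h5 := (Nat.dvd_sub h3 h2)
    have h6 : 1 ≤ p ^ (k : ℕ) := Nat.one_le_pow _ _ hp.out.pos
    rwa [Nat.sub_sub_self h6] at h5
  exact hp.out.one_lt.ne' (Nat.dvd_one.1 h4)

theorem index_range [Finite F] {p : ℕ} [hp : Fact p.Prime] [CharP F p] : ((qs n F).range.index).Coprime p := by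
  have h1 : (qs n F).range.index ∣ Nat.card Fˣ := by
    rw [range_qs]
    refine (Subgroup.index_map_dvd _ pg_surjective).trans ?_
    rw [Subgroup.index_ker]
    exact Subgroup.card_subgroup_dvd_card _
  refine Nat.Coprime.coprime_dvd_left h1 ?_
  exact card_units_coprime

/-! ### the torus -/

/-- the diagonal matrices -/
def dg (n : ℕ) (F : Type*) [Field F] : (Fin (n + 1) → Fˣ) →* GL (Fin (n + 1)) F where
  toFun d := ⟨diagonal fun i => (d i : F), diagonal fun i => (((d i)⁻¹ : Fˣ) : F), by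
      rw [diagonal_mul_diagonal, ← diagonal_one]
      congr 1
      ext i
      exact (d i).mul_inv, by
      rw [diagonal_mul_diagonal, ← diagonal_one]
      congr 1
      ext i
      exact (d i).inv_mul⟩
  map_one' := Units.ext diagonal_one
  map_mul' d e := Units.ext (by
    change diagonal _ = diagonal _ * diagonal _
    rw [diagonal_mul_diagonal]
    rfl)

theorem dg_val (d : Fin (n + 1) → Fˣ) : (dg n F d).1 = diagonal fun i => (d i : F) := rfl

theorem dg_inv_val (d : Fin (n + 1) → Fˣ) : (dg n F d)⁻¹.1 = diagonal fun i => (((d i)⁻¹ : Fˣ) : F) := rfl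

/-- the diagonal matrices in `PGL` -/
def dP (n : ℕ) (F : Type*) [Field F] : (Fin (n + 1) → Fˣ) →* PG n F := (pg n F).comp (dg n F)

/-- the torus of `PGL` -/
def dT (n : ℕ) (F : Type*) [Field F] : Subgroup (PG n F) := (dP n F).range

theorem mem_dT {t : PG n F} : t ∈ dT n F ↔ ∃ d, dP n F d = t := Iff.rfl

theorem dP_mem (d : Fin (n + 1) → Fˣ) : dP n F d ∈ dT n F := ⟨d, rfl⟩

theorem dg_const (c : Fˣ) : dg n F (fun _ => c) ∈ Subgroup.center (GL (Fin (n + 1)) F) :=
  scalar_mem_center (c : F) (by rw [dg_val]; rfl)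

/-- conjugation of the root elements -/
theorem dg_conj (d : Fin (n + 1) → Fˣ) {a b : Fin (n + 1)} (hab : a ≠ b) (s : F) :
    dg n F d * SpecialLinearGroup.toGL (tv a b s) * (dg n F d)⁻¹ =
      SpecialLinearGroup.toGL (tv a b ((d a : F) * s * (((d b)⁻¹ : Fˣ) : F))) := by
  apply Units.ext
  change (dg n F d).1 * (tv a b s).1 * (dg n F d)⁻¹.1 = (tv a b _).1
  rw [tv_val hab, tv_val hab, dg_val, dg_inv_val, mul_add, mul_one, add_mul, diagonal_mul_diagonal]
  congr 1
  · rw [← diagonal_one]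
    congr 1
    ext i
    exact (d i).mul_inv
  · ext i j
    rw [mul_diagonal, diagonal_mul, single_apply, single_apply]
    split_ifs with h1
    · obtain ⟨rfl, rfl⟩ := h1
      rfl
    · rw [mul_zero, zero_mul]

/-- conjugation of the diagonal matrices by a monomial matrix -/
theorem mono_conj {σ : Equiv.Perm (Fin (n + 1))} {g : SpecialLinearGroup (Fin (n + 1)) F}
    (hg : RGDTypeA.Mono σ g) (d : Fin (n + 1) → Fˣ) :
    SpecialLinearGroup.toGL g * dg n F d * (SpecialLinearGroup.toGL g)⁻¹ = dg n F (fun i => d (σ.symm i)) := by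
  rw [mul_inv_eq_iff_eq_mul]
  apply Units.ext
  change g.1 * (dg n F d).1 = (dg n F _).1 * g.1
  rw [dg_val, dg_val]
  ext i j
  rw [mul_diagonal, diagonal_mul]
  by_cases h1 : g.1 i j = 0
  · rw [h1, zero_mul, mul_zero]
  · rw [hg i j h1, Equiv.symm_apply_apply, mul_comm]

theorem card_dT [Finite F] {p : ℕ} [hp : Fact p.Prime] [CharP F p] : (Nat.card (dT n F)).Coprime p := by
  have h1 : Nat.card (dT n F) ∣ Nat.card (Fin (n + 1) → Fˣ) := Subgroup.card_range_dvd (dP n F)
  refine Nat.Coprime.coprime_dvd_left h1 ?_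
  rw [Nat.card_fun]
  apply Nat.Coprime.pow_left
  exact card_units_coprime

end PGL

/-! ### the root group datum -/

section Frame

variable (n : ℕ) (F : Type*) [Field F]

/-- the root groups of `PGL` -/
def XP (x : Fin n → ℤ) : Subgroup (PG n F) := (RGDTypeA.X F x).map (qs n F)

/-- the standard `n`-elements of `PGL` -/
noncomputable def nP (i : Fin n) : PG n F := qs n F (RGDTypeA.ns n F i)

variable {n F}

theorem mem_XP_rtA {a b : Fin (n + 1)} (hab : a ≠ b) {u : PG n F} :
    u ∈ XP n F (RootsA.rtA a b) ↔ ∃ s : F, qs n F (tv a b s) = u := by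
  unfold XP
  rw [RGDTypeA.X_rtA hab, Subgroup.mem_map]
  constructor
  · rintro ⟨_, ⟨s, rfl⟩, rfl⟩
    exact ⟨s, rfl⟩
  · rintro ⟨s, rfl⟩
    exact ⟨_, ⟨s, rfl⟩, rfl⟩

theorem dP_conj (d : Fin (n + 1) → Fˣ) {a b : Fin (n + 1)} (hab : a ≠ b) (s : F) :
    dP n F d * qs n F (tv a b s) * (dP n F d)⁻¹ =
      qs n F (tv a b ((d a : F) * s * (((d b)⁻¹ : Fˣ) : F))) := by
  have h1 := congrArg (pg n F) (dg_conj d hab s)
  rw [map_mul, map_mul, map_inv] at h1
  exact h1

theorem qs_tv_inj {a b : Fin (n + 1)} (hab : a ≠ b) {s t : F} (e : qs n F (tv a b s) = qs n F (tv a b t)) :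
    s = t := by
  have h1 : tv a b (s + -t) ∈ (qs n F).ker := by
    rw [MonoidHom.mem_ker, tv_add, tv_neg, map_mul, map_inv, e, mul_inv_cancel]
  have h2 := ker_qs_le h1
  obtain ⟨r, -, hr⟩ := Matrix.SpecialLinearGroup.mem_center_iff.1 h2
  have h3 : (scalar (Fin (n + 1)) r) a b = (tv a b (s + -t)).1 a b := congrFun (congrFun hr a) b
  rw [tv_val hab, Matrix.add_apply, Matrix.one_apply_ne hab, Matrix.single_apply_same, zero_add, Matrix.scalar_apply,
    Matrix.diagonal_apply_ne _ hab] at h3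
  linear_combination -h3

theorem map_T_le : (RGDTypeA.T (Fin (n + 1)) F).map (qs n F) ≤ dT n F := by
  rintro _ ⟨t, ht, rfl⟩
  have ht' : RGDTypeA.Mono 1 t := ht
  have h0 : ∀ i, t.1 i i ≠ 0 := fun i => ht'.apply_ne_zero i
  refine ⟨fun i => Units.mk0 _ (h0 i), ?_⟩
  change pg n F _ = pg n F _
  congr 1
  apply Units.ext
  rw [dg_val]
  ext i j
  by_cases hij : i = j
  · subst hij
    rw [diagonal_apply_eq]
    rfl
  · rw [diagonal_apply_ne _ hij]
    change 0 = t.1 i j
    by_contra h1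
    exact hij (ht' i j (Ne.symm h1))

variable {W : Type*} [Group W] (cs : CoxeterSystem (cA n) W) {A : Fin n → Fin n → ℤ} (h : IsCartan (cA n) A)

theorem cj_dT {x : Fin n → ℤ} (hx : IsRoot cs h x) {t : PG n F} (ht : t ∈ dT n F) : cj t (XP n F x) = XP n F x := by
  obtain ⟨a, b, hab, rfl⟩ := RootsA.exists_of_isRoot cs h hx
  obtain ⟨d, rfl⟩ := ht
  ext u
  rw [mem_cj, mem_XP_rtA hab, mem_XP_rtA hab]
  constructor
  · rintro ⟨s, hs⟩
    refine ⟨_, (dP_conj d hab s).symm.trans ?_⟩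
    rw [hs]
    group
  · rintro ⟨s, rfl⟩
    refine ⟨(((d a)⁻¹ : Fˣ) : F) * s * (d b : F), ?_⟩
    have h1 := dP_conj d hab ((((d a)⁻¹ : Fˣ) : F) * s * (d b : F))
    have h2 : (d a : F) * ((((d a)⁻¹ : Fˣ) : F) * s * (d b : F)) * (((d b)⁻¹ : Fˣ) : F) = s := by
      have h3 : (d a : F) * (((d a)⁻¹ : Fˣ) : F) = 1 := (d a).mul_inv
      have h4 : (d b : F) * (((d b)⁻¹ : Fˣ) : F) = 1 := (d b).mul_inv
      linear_combination (s * (d b : F) * (((d b)⁻¹ : Fˣ) : F)) * h3 + s * h4
    rw [h2] at h1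
    rw [← h1]
    group

theorem nP_norm (i : Fin n) : nP n F i ∈ Subgroup.normalizer (dT n F : Set (PG n F)) := by
  have key : ∀ {σ : Equiv.Perm (Fin (n + 1))} {g : SpecialLinearGroup (Fin (n + 1)) F}, RGDTypeA.Mono σ g →
      ∀ t ∈ dT n F, qs n F g * t * (qs n F g)⁻¹ ∈ dT n F := by
    rintro σ g hg _ ⟨d, rfl⟩
    have h1 := congrArg (pg n F) (mono_conj hg d)
    rw [map_mul, map_mul, map_inv] at h1
    exact ⟨_, h1.symm⟩
  rw [Subgroup.mem_normalizer_iff]
  intro t
  refine ⟨key (RGDTypeA.mono_ns i) t, fun h1 => ?_⟩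
  have h2 := key (RGDTypeA.mono_ns (F := F) i).inv _ h1
  rw [map_inv] at h2
  have h3 : (nP n F i)⁻¹ * (nP n F i * t * (nP n F i)⁻¹) * (nP n F i)⁻¹⁻¹ = t := by group
  change (nP n F i)⁻¹ * (nP n F i * t * (nP n F i)⁻¹) * (nP n F i)⁻¹⁻¹ ∈ dT n F at h2
  rwa [h3] at h2

/-- **the root group datum of `PGL`** -/
theorem rgdP [Finite W] [Finite F] {p : ℕ} [Fact p.Prime] [CharP F p] : RGD cs h p (dT n F) (nP n F) (XP n F) :=
  enlarge (rgd_map_of_ker_le_center (RGDTypeA.rgd cs h (F := F) (p := p)) (qs n F) ker_qs_le) map_T_le nP_norm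
    (fun _ hx _ ht => cj_dT cs h hx ht) card_dT

theorem G1P_eq : G1 cs h (XP n F) = (qs n F).range := by
  rw [MonoidHom.range_eq_map, ← RGDTypeA.G1_eq_top cs h]
  exact RGDTypeA.G1_map cs h (RGDTypeA.X F) (qs n F)

theorem XP_le_range (x : Fin n → ℤ) : XP n F x ≤ (qs n F).range := by
  rw [MonoidHom.range_eq_map]
  exact Subgroup.map_mono le_top

theorem UU_le_range : UU cs h (XP n F) ≤ (qs n F).range := RGD.Sup_le fun x _ => XP_le_range x

/-- **the group is generated by the torus and the root groups** -/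
theorem GGP_eq_top : GG cs h (dT n F) (XP n F) = ⊤ := by
  have h1 : GG cs h (dT n F) (XP n F) = dT n F ⊔ (qs n F).range := by rw [← G1P_eq cs h]; rfl
  rw [h1, eq_top_iff]
  intro y _
  obtain ⟨g, rfl⟩ := pg_surjective y
  let c : Fˣ := GeneralLinearGroup.det g
  have h2 : GeneralLinearGroup.det (dg n F (Pi.mulSingle 0 c)) = c := by
    apply Units.ext
    change (dg n F (Pi.mulSingle 0 c)).1.det = c
    rw [dg_val, det_diagonal, Finset.prod_eq_single 0]
    · rw [Pi.mulSingle_eq_same]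
    · intro j _ hj
      rw [Pi.mulSingle_eq_of_ne hj, Units.val_one]
    · intro h3
      exact absurd (Finset.mem_univ _) h3
  have h3 : (dg n F (Pi.mulSingle 0 c))⁻¹ * g ∈
      (SpecialLinearGroup.toGL : SpecialLinearGroup (Fin (n + 1)) F →* GL (Fin (n + 1)) F).range := by
    rw [range_toGL, MonoidHom.mem_ker, map_mul, map_inv, h2, inv_mul_cancel]
  obtain ⟨k, hk⟩ := h3
  have h4 : pg n F g = dP n F (Pi.mulSingle 0 c) * qs n F k := by
    change _ = pg n F _ * pg n F _
    rw [← map_mul, hk, mul_inv_cancel_left]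
  rw [h4]
  exact mul_mem ((le_sup_left : dT n F ≤ _) ⟨_, rfl⟩) ((le_sup_right : (qs n F).range ≤ _) ⟨_, rfl⟩)

/-! ### the coordinates -/

/-- a root group as a homomorphism -/
noncomputable def th (a b : Fin (n + 1)) : Multiplicative F →* PG n F where
  toFun s := qs n F (tv a b (Multiplicative.toAdd s))
  map_one' := by
    change qs n F (tv a b (0 : F)) = 1
    rw [tv_zero, map_one]
  map_mul' s t := by
    rw [← map_mul, ← tv_add]
    rfl

theorem th_injective {a b : Fin (n + 1)} (hab : a ≠ b) : Function.Injective (th (F := F) a b) :=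
  fun s t e => Multiplicative.toAdd.injective (qs_tv_inj (s := Multiplicative.toAdd s) (t := Multiplicative.toAdd t) hab e)

theorem XP_rtA_range {a b : Fin (n + 1)} (hab : a ≠ b) : XP n F (RootsA.rtA a b) = (th (F := F) a b).range := by
  ext u
  rw [mem_XP_rtA hab]
  exact Iff.rfl

theorem XP_sr (i : Fin n) : XP n F (sr i) = (th (F := F) i.castSucc i.succ).range := by
  rw [← RootsA.rtA_sr, XP_rtA_range (Fin.castSucc_lt_succ).ne]

/-- the coordinate of a simple root group -/
noncomputable def xP (i : Fin n) : ↥(XP n F (sr i)) ≃* Multiplicative F :=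
  (MulEquiv.subgroupCongr (XP_sr i)).trans (MonoidHom.ofInjective (th_injective (Fin.castSucc_lt_succ).ne)).symm

theorem th_xP (i : Fin n) (u : ↥(XP n F (sr i))) : th i.castSucc i.succ (xP i u) = (u : PG n F) := by
  have h1 := (MonoidHom.ofInjective (th_injective (F := F) (Fin.castSucc_lt_succ (i := i)).ne)).apply_symm_apply
    (MulEquiv.subgroupCongr (XP_sr i) u)
  exact congrArg Subtype.val h1

theorem xP_eq (i : Fin n) {s : F} {u : ↥(XP n F (sr i))} (e : (u : PG n F) = qs n F (tv i.castSucc i.succ s)) :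
    xP i u = Multiplicative.ofAdd s := by
  apply th_injective (F := F) (Fin.castSucc_lt_succ (i := i)).ne
  rw [th_xP, e]
  rfl

/-- the simple root on the torus, upstairs -/
def al (i : Fin n) : (Fin (n + 1) → Fˣ) →* Fˣ where
  toFun d := d i.castSucc / d i.succ
  map_one' := by rw [Pi.one_apply, Pi.one_apply, div_one]
  map_mul' d e := by rw [Pi.mul_apply, Pi.mul_apply, mul_div_mul_comm]

theorem eq_of_dP {d : Fin (n + 1) → Fˣ} (hd : dP n F d = 1) (a b : Fin (n + 1)) : d a = d b := by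
  by_cases hab : a = b
  · rw [hab]
  have h1 := dP_conj d hab 1
  rw [hd, one_mul, inv_one, mul_one] at h1
  have h2 := qs_tv_inj hab h1
  rw [mul_one] at h2
  apply Units.ext
  have h4 : (((d b)⁻¹ : Fˣ) : F) * (d b : F) = 1 := (d b).inv_mul
  linear_combination (-(d b : F)) * h2 - (d a : F) * h4

theorem ker_dP_le (i : Fin n) : (dP n F).ker ≤ (al (F := F) i).ker := by
  intro d hd
  change d i.castSucc / d i.succ = 1
  rw [eq_of_dP hd i.castSucc i.succ, div_self']

/-- the simple root on the torus -/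
noncomputable def aP (i : Fin n) : ↥(dT n F) →* Fˣ :=
  MonoidHom.liftOfSurjective (dP n F).rangeRestrict (dP n F).rangeRestrict_surjective
    ⟨al i, by rw [MonoidHom.ker_rangeRestrict]; exact ker_dP_le i⟩

theorem aP_apply (i : Fin n) (d : Fin (n + 1) → Fˣ) (hd : dP n F d ∈ dT n F) :
    aP i ⟨dP n F d, hd⟩ = d i.castSucc / d i.succ :=
  MonoidHom.liftOfRightInverse_comp_apply (dP n F).rangeRestrict _ _ _ d

/-- **the coordinates of `PGL`** -/
noncomputable def adjP (n : ℕ) (F : Type*) [Field F] : Adj (dT n F) (XP n F) (fun _ => F) where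
  x i := (xP i).toMonoidHom
  a i := aP i
  surjX i := fun y => ⟨(xP i).symm y, (xP i).apply_symm_apply y⟩
  act i t u hu := by
    obtain ⟨t, ht0⟩ := t
    obtain ⟨d, rfl⟩ := mem_dT.1 ht0
    obtain ⟨s, hs⟩ : ∃ s : F, (u : PG n F) = qs n F (tv i.castSucc i.succ s) := ⟨_, (th_xP i u).symm⟩
    change Multiplicative.toAdd (xP i _) = _ * Multiplicative.toAdd (xP i u)
    rw [xP_eq i hs, xP_eq i (s := (d i.castSucc : F) * s * (((d i.succ)⁻¹ : Fˣ) : F))
      (by rw [← dP_conj d (Fin.castSucc_lt_succ).ne, ← hs]), aP_apply]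
    rw [div_eq_mul_inv, Units.val_mul]
    change (d i.castSucc : F) * s * (((d i.succ)⁻¹ : Fˣ) : F) = (d i.castSucc : F) * (((d i.succ)⁻¹ : Fˣ) : F) * s
    ring
  lin i ψ u hu := by
    have h1 : u = 1 := (xP i).injective (by rw [map_one]; exact hu)
    rw [h1, map_one]
  surjT c := by
    classical
    let d : Fin (n + 1) → Fˣ := fun k => ∏ j ∈ Finset.univ.filter (fun j : Fin n => k.val ≤ j.val), c j
    refine ⟨⟨dP n F d, dP_mem d⟩, fun i => ?_⟩
    rw [aP_apply]
    have h1 : Finset.univ.filter (fun j : Fin n => i.castSucc.val ≤ j.val) =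
        insert i (Finset.univ.filter (fun j : Fin n => i.succ.val ≤ j.val)) := by
      ext j
      simp only [Finset.mem_filter, Finset.mem_univ, true_and, Finset.mem_insert, Fin.val_castSucc, Fin.val_succ,
        Fin.ext_iff]
      omega
    change (∏ j ∈ Finset.univ.filter (fun j : Fin n => i.castSucc.val ≤ j.val), c j) /
      (∏ j ∈ Finset.univ.filter (fun j : Fin n => i.succ.val ≤ j.val), c j) = c i
    rw [h1, Finset.prod_insert (by simp), mul_div_cancel_right]
  ker i t ht u hu := by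
    obtain ⟨t, ht0⟩ := t
    obtain ⟨d, rfl⟩ := mem_dT.1 ht0
    obtain ⟨s, hs⟩ : ∃ s : F, u = qs n F (tv i.castSucc i.succ s) := ⟨_, (th_xP i ⟨u, hu⟩).symm⟩
    rw [aP_apply, div_eq_one] at ht
    have h1 := dP_conj d (Fin.castSucc_lt_succ (i := i)).ne s
    rw [ht] at h1
    have h2 : (d i.succ : F) * s * (((d i.succ)⁻¹ : Fˣ) : F) = s := by
      have h4 : (d i.succ : F) * (((d i.succ)⁻¹ : Fˣ) : F) = 1 := (d i.succ).mul_inv
      linear_combination s * h4
    rw [h2, ← hs] at h1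
    exact mul_inv_eq_iff_eq_mul.1 h1

/-- the torus acts faithfully -/
theorem eq_one_of_aP (t : ↥(dT n F)) (ht : ∀ i, (adjP n F).a i t = 1) : t = 1 := by
  obtain ⟨t, ht0⟩ := t
  obtain ⟨d, rfl⟩ := mem_dT.1 ht0
  have h1 : ∀ i : Fin n, d i.castSucc = d i.succ := fun i => by
    have := ht i
    change aP i _ = 1 at this
    rwa [aP_apply, div_eq_one] at this
  have h2 : ∀ k : Fin (n + 1), d k = d 0 := by
    intro k
    induction k using Fin.induction with
    | zero => rfl
    | succ i ih => rw [← h1 i, ih]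
  have h3 : d = fun _ => d 0 := funext h2
  apply Subtype.ext
  change pg n F (dg n F d) = 1
  rw [h3]
  exact pg_eq_one.2 (dg_const (d 0))

end Frame

/-! ### transposition -/

section Transp

variable {n : ℕ} {F : Type*} [Field F]

/-- the transpose -/
def trG (g : GL (Fin (n + 1)) F) : GL (Fin (n + 1)) F where
  val := g.1ᵀ
  inv := (g⁻¹).1ᵀ
  val_inv := by
    rw [← transpose_mul]
    have h1 : (g⁻¹).1 * g.1 = 1 := g.inv_mul
    rw [h1, transpose_one]
  inv_val := by
    rw [← transpose_mul]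
    have h1 : g.1 * (g⁻¹).1 = 1 := g.mul_inv
    rw [h1, transpose_one]

theorem trG_mul (g k : GL (Fin (n + 1)) F) : trG (g * k) = trG k * trG g := Units.ext (transpose_mul _ _)

theorem trG_trG (g : GL (Fin (n + 1)) F) : trG (trG g) = g := Units.ext (transpose_transpose _)

theorem trG_one : trG (1 : GL (Fin (n + 1)) F) = 1 := Units.ext transpose_one

theorem trG_inv (g : GL (Fin (n + 1)) F) : trG g⁻¹ = (trG g)⁻¹ := Units.ext rfl

/-- the inverse transpose -/
def tau (n : ℕ) (F : Type*) [Field F] : GL (Fin (n + 1)) F →* GL (Fin (n + 1)) F where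
  toFun g := (trG g)⁻¹
  map_one' := by rw [trG_one, inv_one]
  map_mul' g k := by rw [trG_mul, _root_.mul_inv_rev]

theorem tau_center : Subgroup.center (GL (Fin (n + 1)) F) ≤
    (Subgroup.center (GL (Fin (n + 1)) F)).comap (tau n F) := by
  intro g hg
  rw [Subgroup.mem_comap, Subgroup.mem_center_iff]
  intro k
  change k * (trG g)⁻¹ = (trG g)⁻¹ * k
  have h1 : trG k * g⁻¹ = g⁻¹ * trG k := Subgroup.mem_center_iff.1 (inv_mem hg) _
  have h2 := congrArg trG h1
  rw [trG_mul, trG_mul, trG_inv, trG_trG] at h2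
  exact h2.symm

/-- transposition on `PGL` -/
def phi (n : ℕ) (F : Type*) [Field F] (y : PG n F) : PG n F :=
  (QuotientGroup.map _ _ (tau n F) tau_center y)⁻¹

theorem phi_pg (g : GL (Fin (n + 1)) F) : phi n F (pg n F g) = pg n F (trG g) := by
  change (pg n F (trG g)⁻¹)⁻¹ = _
  rw [map_inv, inv_inv]

theorem phi_mul (x y : PG n F) : phi n F (x * y) = phi n F y * phi n F x := by
  obtain ⟨g, rfl⟩ := pg_surjective x
  obtain ⟨k, rfl⟩ := pg_surjective y
  rw [← map_mul, phi_pg, phi_pg, phi_pg, trG_mul, map_mul]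

theorem phi_phi (x : PG n F) : phi n F (phi n F x) = x := by
  obtain ⟨g, rfl⟩ := pg_surjective x
  rw [phi_pg, phi_pg, trG_trG]

theorem trG_tv {a b : Fin (n + 1)} (hab : a ≠ b) (s : F) :
    trG (SpecialLinearGroup.toGL (tv a b s)) = SpecialLinearGroup.toGL (tv b a s) := by
  apply Units.ext
  change (tv a b s).1ᵀ = (tv b a s).1
  rw [tv_val hab, tv_val hab.symm, transpose_add, transpose_one, transpose_single]

theorem phi_tv {a b : Fin (n + 1)} (hab : a ≠ b) (s : F) :
    phi n F (qs n F (tv a b s)) = qs n F (tv b a s) := by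
  change phi n F (pg n F _) = pg n F _
  rw [phi_pg, trG_tv hab]

theorem phi_dT {t : PG n F} (ht : t ∈ dT n F) : phi n F t = t := by
  obtain ⟨d, rfl⟩ := ht
  change phi n F (pg n F _) = pg n F _
  rw [phi_pg]
  congr 1
  apply Units.ext
  change (diagonal _)ᵀ = diagonal _
  rw [diagonal_transpose]

variable {W : Type*} [Group W] (cs : CoxeterSystem (cA n) W) {A : Fin n → Fin n → ℤ} (h : IsCartan (cA n) A)

theorem phi_root {x : Fin n → ℤ} (hx : IsRoot cs h x) {u : PG n F} (hu : u ∈ XP n F x) :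
    phi n F u ∈ XP n F (-x) := by
  obtain ⟨a, b, hab, rfl⟩ := RootsA.exists_of_isRoot cs h hx
  obtain ⟨s, rfl⟩ := (mem_XP_rtA hab).1 hu
  rw [phi_tv hab, RootsA.rtA_neg, mem_XP_rtA hab.symm]
  exact ⟨s, rfl⟩

/-- **the anti-automorphism** -/
theorem antiP [Finite W] [Finite F] {p : ℕ} [Fact p.Prime] [CharP F p] : Anti (rgdP cs h (F := F) (p := p)) (phi n F) :=
  anti_of_root _ (GGP_eq_top cs h) phi_mul phi_phi (fun _ ht => phi_dT ht) fun _ hx _ hu => phi_root cs h hx hu

/-! ### the commutator subgroup of `U` -/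

theorem XP_le_UU {a b : Fin (n + 1)} (hab : a < b) : XP n F (RootsA.rtA a b) ≤ UU cs h (XP n F) :=
  RGD.le_Sup (S := RGD.Pos cs h) ⟨RootsA.isRoot_rtA cs h hab.ne, RootsA.rtA_nonneg_iff.2 hab.le⟩

/-- the nonsimple positive root groups are in the kernels of the linear characters of `U` -/
theorem hom_nonsimple (f : ↥(UU cs h (XP n F)) →* ℂˣ) (x : Fin n → ℤ) (hx : x ∈ RGD.Pos cs h)
    (hns : ∀ i, x ≠ sr i) (u : PG n F) (hu : u ∈ XP n F x) (hu' : u ∈ UU cs h (XP n F)) : f ⟨u, hu'⟩ = 1 := by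
  obtain ⟨a, b, hab, rfl⟩ := RootsA.exists_of_isRoot cs h hx.1
  have hlt : a < b := lt_of_le_of_ne (RootsA.rtA_nonneg_iff.1 hx.2) hab
  have hlt' : a.val < b.val := hlt
  have hb := b.2
  have h1 : a.val + 1 ≠ b.val := by
    intro e
    have ha : a.val < n := by omega
    refine hns ⟨a.val, ha⟩ ?_
    rw [← RootsA.rtA_sr]
    congr 1
    exact Fin.ext e.symm
  let c : Fin (n + 1) := ⟨a.val + 1, by omega⟩
  have hac : a < c := Fin.lt_def.2 (Nat.lt_succ_self _)
  have hcb : c < b := Fin.lt_def.2 (by change a.val + 1 < b.val; omega)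
  obtain ⟨s, rfl⟩ := (mem_XP_rtA hab).1 hu
  have e1 : qs n F (tv a b s) = ⁅qs n F (tv a c s), qs n F (tv c b 1)⁆ := by
    rw [← map_commutatorElement, tv_comm hac.ne hcb.ne hab, mul_one]
  have m1 : qs n F (tv a c s) ∈ UU cs h (XP n F) := XP_le_UU cs h hac ((mem_XP_rtA hac.ne).2 ⟨_, rfl⟩)
  have m2 : qs n F (tv c b 1) ∈ UU cs h (XP n F) := XP_le_UU cs h hcb ((mem_XP_rtA hcb.ne).2 ⟨_, rfl⟩)
  have e2 : (⟨qs n F (tv a b s), hu'⟩ : ↥(UU cs h (XP n F))) =
      ⁅(⟨_, m1⟩ : ↥(UU cs h (XP n F))), (⟨_, m2⟩ : ↥(UU cs h (XP n F)))⁆ := Subtype.ext e1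
  rw [e2, map_commutatorElement, commutatorElement_eq_one_iff_mul_comm, mul_comm]

/-- **the kernel of the linear characters of `U`** -/
theorem hNP [Finite W] [Finite F] {p : ℕ} [Fact p.Prime] [CharP F p] (f : ↥(UU cs h (XP n F)) →* ℂˣ)
    (u : ↥(UU cs h (XP n F)))
    (hu : ∀ i, Cfsg.Agent.H40.OC.co (rgdP cs h (F := F) (p := p)) (adjP n F) i u = 1) : f u = 1 :=
  hom_triv _ _ f (fun x hx hns u hu hu' => hom_nonsimple cs h f x hx hns u hu hu') u hu

end Transp

/-! ### the pinning -/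

section Pin

variable {n : ℕ} {F : Type*} [Field F]

/-- the pinning -/
noncomputable def eP (n : ℕ) (F : Type*) [Field F] (i : Fin n) : PG n F := qs n F (tv i.castSucc i.succ 1)

/-- the opposite pinning -/
noncomputable def fP (n : ℕ) (F : Type*) [Field F] (i : Fin n) : PG n F := qs n F (tv i.succ i.castSucc (-1))

theorem eP_mem (i : Fin n) : eP n F i ∈ XP n F (sr i) := by
  rw [← RootsA.rtA_sr]
  exact (mem_XP_rtA (Fin.castSucc_lt_succ).ne).2 ⟨1, rfl⟩

theorem fP_mem (i : Fin n) : fP n F i ∈ XP n F (-sr i) := by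
  rw [← RootsA.rtA_sr, RootsA.rtA_neg]
  exact (mem_XP_rtA (Fin.castSucc_lt_succ).ne').2 ⟨-1, rfl⟩

theorem eP_ne (i : Fin n) : eP n F i ≠ 1 := by
  intro h1
  have h2 : qs n F (tv i.castSucc i.succ 1) = qs n F (tv i.castSucc i.succ 0) := by
    rw [tv_zero, map_one]
    exact h1
  exact one_ne_zero (qs_tv_inj (Fin.castSucc_lt_succ (i := i)).ne h2)

theorem xP_eP (i : Fin n) : xP i ⟨eP n F i, eP_mem i⟩ = Multiplicative.ofAdd (1 : F) := xP_eq i rfl

/-- `n_i = e_i f_i e_i` -/
theorem nP_eq (i : Fin n) : nP n F i = eP n F i * fP n F i * eP n F i := by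
  unfold nP RGDTypeA.ns RGDTypeA.nn eP fP
  rw [inv_one, map_mul, map_mul]

theorem phi_eP (i : Fin n) : phi n F (eP n F i) = (fP n F i)⁻¹ := by
  unfold eP fP
  rw [phi_tv (Fin.castSucc_lt_succ (i := i)).ne, ← map_inv, tv_neg, inv_inv]

theorem phi_fP (i : Fin n) : phi n F (fP n F i) = (eP n F i)⁻¹ := by
  unfold eP fP
  rw [phi_tv (Fin.castSucc_lt_succ (i := i)).ne', ← map_inv, tv_neg]

theorem nn_braid {a b c : Fin (n + 1)} (hab : a ≠ b) (hbc : b ≠ c) (hac : a ≠ c) :
    RGDTypeA.nn a b (1 : F) * RGDTypeA.nn b c 1 * RGDTypeA.nn a b 1 =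
      RGDTypeA.nn b c 1 * RGDTypeA.nn a b 1 * RGDTypeA.nn b c 1 := by
  apply smul_ext
  intro v
  ext l
  simp only [mul_smul, RGDTypeA.nn_smul hab one_ne_zero, RGDTypeA.nn_smul hbc one_ne_zero, inv_one, one_mul, neg_mul]
  by_cases h1 : l = a
  · subst h1
    simp [hab, hac, hab.symm, hac.symm, hbc, hbc.symm]
  · by_cases h2 : l = b
    · subst h2
      simp [hab, hac, hab.symm, hac.symm, hbc, hbc.symm]
    · by_cases h3 : l = c
      · subst h3
        simp [hab, hac, hab.symm, hac.symm, hbc, hbc.symm]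
      · simp [h1, h2, h3]

theorem nn_comm {a b c d : Fin (n + 1)} (hab : a ≠ b) (hcd : c ≠ d) (hac : a ≠ c) (had : a ≠ d) (hbc : b ≠ c)
    (hbd : b ≠ d) : RGDTypeA.nn a b (1 : F) * RGDTypeA.nn c d 1 = RGDTypeA.nn c d 1 * RGDTypeA.nn a b 1 := by
  apply smul_ext
  intro v
  ext l
  simp only [mul_smul, RGDTypeA.nn_smul hab one_ne_zero, RGDTypeA.nn_smul hcd one_ne_zero, inv_one, one_mul, neg_mul]
  by_cases h1 : l = a
  · subst h1
    simp [hab, hac, had, hcd, hbc, hbd]
  · by_cases h2 : l = b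
    · subst h2
      simp [hab.symm, hac, had, hcd, hbc, hbd]
    · by_cases h3 : l = c
      · subst h3
        simp [hab, hac.symm, had.symm, hcd, hbc.symm, hbd.symm]
      · by_cases h4 : l = d
        · subst h4
          simp [hab, hac.symm, had.symm, hcd.symm, hbc.symm, hbd.symm]
        · simp [h1, h2, h3, h4]

/-- **the braid relations** -/
theorem braidP {i j : Fin n} (hij : i.val + 1 = j.val) :
    nP n F i * nP n F j * nP n F i = nP n F j * nP n F i * nP n F j := by
  have e : i.succ = j.castSucc := Fin.ext hij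
  have h1 : RGDTypeA.ns n F i * RGDTypeA.ns n F j * RGDTypeA.ns n F i =
      RGDTypeA.ns n F j * RGDTypeA.ns n F i * RGDTypeA.ns n F j := by
    unfold RGDTypeA.ns
    rw [e]
    refine nn_braid ?_ (Fin.castSucc_lt_succ (i := j)).ne ?_
    · rw [← e]; exact (Fin.castSucc_lt_succ (i := i)).ne
    · intro h2
      have h3 := congrArg Fin.val h2
      rw [Fin.val_castSucc, Fin.val_succ] at h3
      omega
  have h2 := congrArg (qs n F) h1
  simp only [map_mul] at h2
  exact h2

/-- the commuting relations -/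
theorem commP {i j : Fin n} (hij : i.val + 1 < j.val) : nP n F i * nP n F j = nP n F j * nP n F i := by
  have h1 : RGDTypeA.ns n F i * RGDTypeA.ns n F j = RGDTypeA.ns n F j * RGDTypeA.ns n F i := by
    unfold RGDTypeA.ns
    refine nn_comm (Fin.castSucc_lt_succ (i := i)).ne (Fin.castSucc_lt_succ (i := j)).ne ?_ ?_ ?_ ?_ <;>
    · intro h2
      have h3 := congrArg Fin.val h2
      simp only [Fin.val_castSucc, Fin.val_succ] at h3
      omega
  have h2 := congrArg (qs n F) h1
  simp only [map_mul] at h2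
  exact h2

end Pin

end Cfsg.Agent.H379.GG
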